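import Groth.Prelude.Def_Magnet4
import Mathlib.LinearAlgebra.FreeModule.PID
import Mathlib.Algebra.Module.Torsion.Free
import Mathlib.GroupTheory.Finiteness

/-!
# A height function for a face of a finitely generated monoid
-/

universe v w

namespace Groth.MagnetRetract

/-- A non-torsion element of a finitely generated abelian group is positive under some integral form. -/
lemma exists_pos {W : Type w} [AddCommGroup W] [Module.Finite ℤ W] (v : W)
    (hv : ∀ k : ℕ, k • v = 0 → k = 0) : ∃ φ : W →+ ℤ, 0 < φ v := by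
  let q := (Submodule.torsion ℤ W).mkQ
  have hq : q v ≠ 0 := by
    intro h
    rw [Submodule.mkQ_apply, Submodule.Quotient.mk_eq_zero, Submodule.mem_torsion_iff] at h
    obtain ⟨⟨z, hz⟩, hzv⟩ := h
    have hz0 : z ≠ 0 := nonZeroDivisors.ne_zero hz
    change z • v = 0 at hzv
    have h1 : z.natAbs • v = 0 := by
      rcases Int.natAbs_eq z with h | h <;> rw [h] at hzv
      · rwa [natCast_zsmul] at hzv
      · rwa [neg_zsmul, natCast_zsmul, neg_eq_zero] at hzv
    exact hz0 (Int.natAbs_eq_zero.mp (hv _ h1))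
  let b := Module.Free.chooseBasis ℤ (W ⧸ Submodule.torsion ℤ W)
  obtain ⟨i, hi⟩ : ∃ i, b.repr (q v) i ≠ 0 := by
    by_contra h
    push Not at h
    exact hq (b.repr.injective (by rw [map_zero]; exact Finsupp.ext h))
  rcases lt_or_gt_of_ne hi with h | h
  · exact ⟨-((b.coord i).comp q).toAddMonoidHom, by simpa [b] using h⟩
  · exact ⟨((b.coord i).comp q).toAddMonoidHom, by simpa [b] using h⟩

/-- Gordan: finitely many elements without non-trivial non-negative relation are positive under some
integral form. -/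
lemma exists_forall_pos {W : Type w} [AddCommGroup W] [Module.Finite ℤ W] (n : ℕ) (v : Fin n → W)
    (hv : ∀ c : Fin n → ℕ, ∑ i, c i • v i = 0 → c = 0) : ∃ φ : W →+ ℤ, ∀ i, 0 < φ (v i) := by
  induction n generalizing W with
  | zero => exact ⟨0, fun i => i.elim0⟩
  | succ n ih =>
    obtain rfl | hn := Nat.eq_zero_or_pos n
    · obtain ⟨φ, hφ⟩ := exists_pos (v 0) fun k hk => by
        have h1 := hv (fun _ => k) (by simpa using hk)
        exact congrFun h1 0
      exact ⟨φ, fun i => by rwa [Fin.fin_one_eq_zero i]⟩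
    let u := v (Fin.last n)
    have hsum : ∀ c : Fin n → ℕ, ∀ d : ℕ,
        ∑ i, c i • v (Fin.castSucc i) + d • u = 0 → c = 0 ∧ d = 0 := by
      intro c d h
      have h1 := hv (Fin.snoc c d) (by
        rw [Fin.sum_univ_castSucc]
        simpa [Fin.snoc_castSucc, Fin.snoc_last, u] using h)
      refine ⟨funext fun i => ?_, ?_⟩
      · have := congrFun h1 (Fin.castSucc i)
        simpa using this
      · have := congrFun h1 (Fin.last n)
        simpa using this
    obtain ⟨φ, hφ⟩ := ih (fun i => v (Fin.castSucc i)) fun c hc => (hsum c 0 (by simpa using hc)).1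
    by_cases hu : 0 < φ u
    · exact ⟨φ, fun i => Fin.lastCases hu hφ i⟩
    push Not at hu
    obtain ⟨a, ha⟩ : ∃ a : ℕ, φ u = -(a : ℤ) := ⟨(-φ u).toNat, by omega⟩
    let b : Fin n → ℕ := fun i => (φ (v (Fin.castSucc i))).toNat
    have hb : ∀ i, φ (v (Fin.castSucc i)) = (b i : ℤ) := fun i => by
      have := hφ i
      simp only [b]
      omega
    obtain ⟨ψ, hψ⟩ := ih (fun i => b i • u + a • v (Fin.castSucc i)) fun c hc => by
      have h1 : ∑ i, (c i * a) • v (Fin.castSucc i) + (∑ i, c i * b i) • u = 0 := by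
        rw [Finset.sum_smul, ← Finset.sum_add_distrib]
        refine Eq.trans (Finset.sum_congr rfl fun i _ => ?_) hc
        rw [smul_add, smul_smul, smul_smul, add_comm]
      obtain ⟨-, h2⟩ := hsum _ _ h1
      funext i
      have h3 := Finset.sum_eq_zero_iff.mp h2 i (Finset.mem_univ i)
      have := hφ i
      rw [hb i] at this
      rcases Nat.mul_eq_zero.mp h3 with h | h
      · exact h
      · omega
    have hψ' : ∀ i, 0 < (b i : ℤ) * ψ u + (a : ℤ) * ψ (v (Fin.castSucc i)) := fun i => by
      have := hψ i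
      simpa [map_add, map_nsmul] using this
    rcases Nat.eq_zero_or_pos a with rfl | ha0
    · have hu0 : 0 < ψ u := by
        have h1 := hψ' ⟨0, hn⟩
        simp only [Nat.cast_zero, zero_mul, add_zero] at h1
        exact pos_of_mul_pos_right h1 (Int.natCast_nonneg _)
      let B : ℤ := 1 + ∑ i : Fin n, |ψ (v (Fin.castSucc i))|
      refine ⟨B • φ + ψ, fun i => Fin.lastCases ?_ (fun j => ?_) i⟩
      · simp only [AddMonoidHom.add_apply, AddMonoidHom.smul_apply, smul_eq_mul]
        simpa [u, ha] using hu0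
      · simp only [AddMonoidHom.add_apply, AddMonoidHom.smul_apply, smul_eq_mul]
        have h1 : |ψ (v (Fin.castSucc j))| ≤ ∑ i : Fin n, |ψ (v (Fin.castSucc i))| :=
          Finset.single_le_sum (f := fun i => |ψ (v (Fin.castSucc i))|) (fun i _ => abs_nonneg _) (Finset.mem_univ j)
        have h0 : 0 ≤ ∑ i : Fin n, |ψ (v (Fin.castSucc i))| := Finset.sum_nonneg fun i _ => abs_nonneg _
        have h2 : 1 ≤ φ (v (Fin.castSucc j)) := hφ j
        have h3 : B * 1 ≤ B * φ (v (Fin.castSucc j)) := mul_le_mul_of_nonneg_left h2 (by omega)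
        have h4 := neg_abs_le (ψ (v (Fin.castSucc j)))
        omega
    · let χ : W →+ ℤ := (a : ℤ) • ψ + (ψ u) • φ
      have hχu : χ u = 0 := by
        simp only [χ, AddMonoidHom.add_apply, AddMonoidHom.smul_apply, smul_eq_mul, ha]
        ring
      let B : ℤ := 1 + ∑ i : Fin n, (b i : ℤ)
      refine ⟨B • χ - φ, fun i => Fin.lastCases ?_ (fun j => ?_) i⟩
      · simp only [AddMonoidHom.sub_apply, AddMonoidHom.smul_apply, smul_eq_mul]
        change 0 < B * χ u - φ u
        rw [hχu, ha]
        omega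
      · simp only [AddMonoidHom.sub_apply, AddMonoidHom.smul_apply, smul_eq_mul]
        have h1 : 1 ≤ χ (v (Fin.castSucc j)) := by
          simp only [χ, AddMonoidHom.add_apply, AddMonoidHom.smul_apply, smul_eq_mul, hb]
          have := hψ' j
          rw [mul_comm (ψ u)]
          omega
        have h2 : (b j : ℤ) ≤ ∑ i : Fin n, (b i : ℤ) :=
          Finset.single_le_sum (f := fun i => (b i : ℤ)) (fun i _ => Int.natCast_nonneg _) (Finset.mem_univ j)
        have h3 : B * 1 ≤ B * χ (v (Fin.castSucc j)) := mul_le_mul_of_nonneg_left h1 (by omega)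
        rw [hb]
        omega

variable {M : Type v} [AddCommGroup M]

lemma exists_sub_of_mem_closure (F : AddSubmonoid M) {x : M}
    (hx : x ∈ AddSubgroup.closure (F : Set M)) : ∃ a ∈ F, ∃ b ∈ F, x = a - b := by
  induction hx using AddSubgroup.closure_induction with
  | mem y hy => exact ⟨y, hy, 0, F.zero_mem, (sub_zero y).symm⟩
  | zero => exact ⟨0, F.zero_mem, 0, F.zero_mem, (sub_zero _).symm⟩
  | add y z _ _ hy hz =>
    obtain ⟨a, ha, b, hb, rfl⟩ := hy
    obtain ⟨c, hc, d, hd, rfl⟩ := hz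
    exact ⟨a + c, F.add_mem ha hc, b + d, F.add_mem hb hd, by abel⟩
  | neg y _ hy =>
    obtain ⟨a, ha, b, hb, rfl⟩ := hy
    exact ⟨b, hb, a, ha, neg_sub a b⟩

/-- A face of a finitely generated monoid is cut out by a linear form. -/
theorem exists_form [AddGroup.FG M] {N F : AddSubmonoid M} (hN : N.FG) (hF : Magnet.IsFace N F) :
    ∃ ψ : M →+ ℤ, ∀ x ∈ N, 0 ≤ ψ x ∧ (ψ x = 0 ↔ x ∈ F) := by
  classical
  obtain ⟨S, hS⟩ := hN
  let O := S.filter fun g => g ∉ F
  let H := AddSubgroup.closure (F : Set M)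
  let g : Fin O.card → M := fun i => (O.equivFin.symm i).1
  have hgN : ∀ i, g i ∈ N := fun i =>
    hS ▸ AddSubmonoid.subset_closure (Finset.mem_filter.mp (O.equivFin.symm i).2).1
  have : AddGroup.FG (M ⧸ H) :=
    AddGroup.fg_of_surjective (f := QuotientAddGroup.mk' H) (QuotientAddGroup.mk'_surjective H)
  have : Module.Finite ℤ (M ⧸ H) := Module.Finite.iff_addGroup_fg.mpr this
  obtain ⟨φ, hφ⟩ := exists_forall_pos O.card (fun i => QuotientAddGroup.mk' H (g i)) fun c hc => by
    have h1 : QuotientAddGroup.mk' H (∑ i, c i • g i) = 0 := by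
      rw [map_sum]
      simpa only [map_nsmul] using hc
    rw [QuotientAddGroup.mk'_apply, QuotientAddGroup.eq_zero_iff] at h1
    obtain ⟨a, ha, b, hb, hab⟩ := exists_sub_of_mem_closure F h1
    have hxN : ∀ i, c i • g i ∈ N := fun i => N.nsmul_mem (hgN i) _
    have hxF : ∑ i, c i • g i ∈ F :=
      ((hF.add_mem_iff (N.sum_mem fun i _ => hxN i) (hF.le hb)).mp (by rw [hab, sub_add_cancel]; exact ha)).1
    funext i
    have h2 : c i • g i ∈ F := by
      rw [← Finset.add_sum_erase Finset.univ _ (Finset.mem_univ i)] at hxF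
      exact ((hF.add_mem_iff (hxN i) (N.sum_mem fun j _ => hxN j)).mp hxF).1
    cases hci : c i with
    | zero => rfl
    | succ k =>
      rw [hci, succ_nsmul] at h2
      exact absurd ((hF.add_mem_iff (N.nsmul_mem (hgN i) k) (hgN i)).mp h2).2
        (Finset.mem_filter.mp (O.equivFin.symm i).2).2
  let ψ : M →+ ℤ := φ.comp (QuotientAddGroup.mk' H)
  have hψF : ∀ x ∈ F, ψ x = 0 := fun x hx => by
    simp only [ψ, AddMonoidHom.comp_apply, QuotientAddGroup.mk'_apply]
    rw [(QuotientAddGroup.eq_zero_iff x).mpr (AddSubgroup.subset_closure hx), map_zero]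
  have key : ∀ x ∈ N, 0 ≤ ψ x ∧ (ψ x = 0 → x ∈ F) := by
    intro x hx
    rw [← hS] at hx
    induction hx using AddSubmonoid.closure_induction with
    | mem y hy =>
      by_cases hyF : y ∈ F
      · exact ⟨(hψF y hyF).ge, fun _ => hyF⟩
      · have hyO : y ∈ O := Finset.mem_filter.mpr ⟨hy, hyF⟩
        have h1 := hφ (O.equivFin ⟨y, hyO⟩)
        have h2 : g (O.equivFin ⟨y, hyO⟩) = y := by simp [g]
        beta_reduce at h1
        rw [h2] at h1
        change 0 < ψ y at h1
        exact ⟨h1.le, fun h => absurd h h1.ne'⟩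
    | zero => exact ⟨(map_zero ψ).ge, fun _ => F.zero_mem⟩
    | add y z _ _ hy hz =>
      rw [map_add]
      exact ⟨by omega, fun h => F.add_mem (hy.2 (by omega)) (hz.2 (by omega))⟩
  exact ⟨ψ, fun x hx => ⟨(key x hx).1, (key x hx).2, hψF x⟩⟩

/-- A face of a finitely generated monoid is cut out by a height. -/
theorem exists_height [AddGroup.FG M] {N F : AddSubmonoid M} (hN : N.FG) (hF : Magnet.IsFace N F) :
    ∃ ε : N →+ ℕ, ∀ x : N, ε x = 0 ↔ (x : M) ∈ F := by
  obtain ⟨ψ, hψ⟩ := exists_form hN hF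
  refine ⟨{ toFun := fun x => (ψ x).toNat, map_zero' := by simp, map_add' := fun x y => ?_ }, fun x => ?_⟩
  · have h1 := (hψ _ x.2).1
    have h2 := (hψ _ y.2).1
    simp only [AddSubmonoid.coe_add, map_add]
    omega
  · change (ψ x).toNat = 0 ↔ _
    rw [← (hψ _ x.2).2]
    have := (hψ _ x.2).1
    omega

end Groth.MagnetRetract
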