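import Groth.Agent.MagnetRetract.Height
import Groth.Agent.MiscGeom.MagnetPts

/-!
# Character values through the face morphism
-/

set_option autoImplicit false
universe u

open CategoryTheory MonoidalCategory CartesianMonoidalCategory MonObj AlgebraicGeometry
open Magnet Groth.MiscGeom.Mag

noncomputable section

namespace Groth.MagnetRetract

attribute [local instance] algGam

open Classical in
theorem pv_faceMap {S : Scheme.{u}} {M : Type} [AddCommMonoid M] {N F : AddSubmonoid M} (hF : IsFace N F)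
    {X : Over S} (x : X ⟶ AMonS S F) (n : Multiplicative N) :
    pv (x ≫ AMonS.faceMap S hF) n =
      if h : (n.toAdd : M) ∈ F then pv x (Multiplicative.ofAdd ⟨_, h⟩) else 0 := by
  have h0 : pvX (x ≫ AMonS.faceMap S hF) =
      pvX x ≫ Spec.map (CommRingCat.ofHom (faceAlgHom (ULift.{u} ℤ) hF).toRingHom) := by
    refine (Category.assoc _ _ _).trans (Eq.trans ?_ (Category.assoc _ _ _).symm)
    exact congrArg (x.left ≫ ·) (Limits.pullback.lift_fst _ _ _)
  have h1 : pv (x ≫ AMonS.faceMap S hF) n = pvAlg x (faceAlgHom (ULift.{u} ℤ) hF (zm n)) := by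
    show (pvX (x ≫ AMonS.faceMap S hF)).appTop.hom ((Scheme.ΓSpecIso _).inv.hom (zm n)) =
      (pvX x).appTop.hom ((Scheme.ΓSpecIso _).inv.hom _)
    rw [h0, Scheme.Hom.comp_appTop]
    show (pvX x).appTop.hom _ = _
    congr 1
    exact (ConcreteCategory.congr_hom (Scheme.ΓSpecIso_inv_naturality (CommRingCat.ofHom
      (faceAlgHom (ULift.{u} ℤ) hF).toRingHom)) (zm n)).symm
  rw [h1]
  split_ifs with h
  · rw [show zm n = MonoidAlgebra.single (Multiplicative.ofAdd n.toAdd) 1 from rfl,
      faceAlgHom_single_of_mem _ hF _ h]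
    rfl
  · rw [show zm n = MonoidAlgebra.single (Multiplicative.ofAdd n.toAdd) 1 from rfl,
      faceAlgHom_single_of_not_mem _ hF _ h, map_zero]

/-- scaling by a point of `A(N)` -/
def scale {S : Scheme.{u}} {N : Type} [AddCommMonoid N] (T : Over S) (g : T ⟶ AMonS S N) :
    AMonS S N ⊗ T ⟶ AMonS S N ⊗ T :=
  lift (fst _ _ * (snd _ _ ≫ g)) (snd _ _)

variable {S : Scheme.{u}} {M : Type} [AddCommMonoid M] {N F : AddSubmonoid M} {X : Over S}

theorem isEquivariant_scale (T : Over S) (g : T ⟶ AMonS S N) :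
    MonAct.IsEquivariant ((subAct S M N).prod (MonAct.trivial (AMonS S M) T))
      ((subAct S M N).prod (MonAct.trivial (AMonS S M) T)) (scale T g) := by
  rw [MonAct.isEquivariant_iff]
  intro T' h z
  rw [← lift_comp_fst_snd z]
  simp only [scale, comp_lift, MonObj.comp_mul, lift_fst, lift_snd, lift_snd_assoc, MonAct.lift_prod_act,
    MonAct.lift_prod_act_assoc, MonAct.lift_trivial_act, subAct, MonAct.lift_restrict_act,
    MonAct.lift_regular_act]
  rw [_root_.mul_assoc]

/-- the point `n ↦ c ^ ε n` of `A(N)` -/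
def scalePt (ε : N →+ ℕ) (T : Over S) (c : Γ(T.left, ⊤)) : T ⟶ AMonS S N :=
  pvPt T
    { toFun := fun n => c ^ ε n.toAdd
      map_one' := by rw [toAdd_one, map_zero, pow_zero]
      map_mul' := fun m n => by rw [toAdd_mul, map_add, pow_add] }

theorem pv_scalePt (ε : N →+ ℕ) (T : Over S) (c : Γ(T.left, ⊤)) (n : Multiplicative N) :
    pv (scalePt ε T c) n = c ^ ε n.toAdd := pv_pvPt _ _ _

theorem whiskerLeft_scale (ε : N →+ ℕ) {T T' : Over S} (t : T' ⟶ T) (c : Γ(T.left, ⊤)) :
    scale T' (scalePt ε T' (t.left.appTop c)) ≫ (AMonS S N ◁ t) = (AMonS S N ◁ t) ≫ scale T (scalePt ε T c) := by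
  have h : t ≫ scalePt ε T c = scalePt ε T' (t.left.appTop c) := pv_ext fun n => by
    rw [pv_comp, pv_scalePt, pv_scalePt]
    exact map_pow t.left.appTop.hom c (ε n.toAdd)
  rw [← h]
  simp only [scale, comp_lift, lift_whiskerLeft, MonObj.comp_mul, whiskerLeft_fst, whiskerLeft_snd,
    whiskerLeft_snd_assoc]

theorem scale_one (ε : N →+ ℕ) (T : Over S) : scale T (scalePt ε T (1 : Γ(T.left, ⊤))) = 𝟙 _ := by
  have h : scalePt ε T (1 : Γ(T.left, ⊤)) = 1 := pv_ext fun n => by rw [pv_scalePt, one_pow, pv_one]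
  rw [scale, h, MonObj.comp_one, _root_.mul_one, lift_fst_snd]

theorem scale_zero (hF : IsFace N F) (ε : N →+ ℕ) (hε : ∀ x : N, ε x = 0 ↔ (x : M) ∈ F) (T : Over S) :
    scale T (scalePt ε T (0 : Γ(T.left, ⊤))) =
      (AMonS.map S (AddSubmonoid.inclusion hF.le) ▷ T) ≫ (AMonS.faceMap S hF ▷ T) := by
  apply CartesianMonoidalCategory.hom_ext
  · simp only [scale, lift_fst, Category.assoc, whiskerRight_fst, whiskerRight_fst_assoc]
    refine pv_ext fun n => ?_
    rw [← Category.assoc, pv_faceMap, pv_mul, pv_comp, pv_scalePt]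
    split_ifs with h
    · rw [pv_map, (hε n.toAdd).mpr h, pow_zero, map_one, _root_.mul_one]
      rfl
    · rw [zero_pow fun h' => h ((hε n.toAdd).mp h'), map_zero, mul_zero]
  · simp [scale]

theorem scale_whiskerRight (hF : IsFace N F) (ε : N →+ ℕ) (hε : ∀ x : N, ε x = 0 ↔ (x : M) ∈ F) (T : Over S)
    (c : Γ(T.left, ⊤)) :
    scale T (scalePt ε T c) ≫ (AMonS.map S (AddSubmonoid.inclusion hF.le) ▷ T) =
      AMonS.map S (AddSubmonoid.inclusion hF.le) ▷ T := by
  apply CartesianMonoidalCategory.hom_ext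
  · simp only [scale, Category.assoc, whiskerRight_fst, lift_fst_assoc]
    refine pv_ext fun n => ?_
    rw [pv_map, pv_map, pv_mul, pv_comp, pv_scalePt,
      show ε (AddMonoidHom.toMultiplicative (AddSubmonoid.inclusion hF.le) n).toAdd = 0 from (hε _).mpr n.toAdd.2]
    simp
  · simp [scale]

end Groth.MagnetRetract
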